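import Cfsg.Agent.H583.DPi.Tool
import Cfsg.Agent.H408.SporSelf
import Cfsg.Agent.H180.RV.Self
import Cfsg.Agent.H184.PD.RowsC
import Cfsg.Agent.H184.PD.RowsB
import Cfsg.Agent.H524.SporSC
import Cfsg.Agent.H524.RegSpor
import Cfsg.Agent.H219.PD.RowsCo

/-!
# S4247, sporadic rows: self-centralising elements (helper583)
-/

set_option autoImplicit false
set_option linter.unusedSectionVars false

namespace Cfsg.Agent.H583.DPi

open Subgroup Cfsg Cfsg.Agent.H408.SporEng

universe u v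

theorem HasC.of_self {r : ℕ} {G : Type u} {S : Type v} [Group G] [Group S] (e : S ≃* G) (h : Self r G) : HasC S r := by
  obtain ⟨x, -, hx⟩ := h
  exact HasC.congr e.symm ⟨x, hx⟩

theorem HasC.of_all {S : Type u} [Group S] [Finite S] {r : ℕ} (hr : r.Prime) (hd : r ∣ Nat.card S)
    (h : ∀ x : S, orderOf x = r → Nat.card (centralizer ({x} : Set S)) = r) : HasC S r := by
  have : Fact r.Prime := ⟨hr⟩
  obtain ⟨x, hx⟩ := exists_prime_orderOf_dvd_card' r hd
  exact ⟨x, h x hx⟩

theorem HasC.of_zp {S : Type u} [Group S] [Finite S] {r : ℕ} (hr : r.Prime) (hd : r ∣ Nat.card S)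
    (h : ∀ P : Subgroup S, Nat.card P = r → Nat.card (centralizer (P : Set S)) = r) : HasC S r := by
  refine HasC.of_all hr hd fun x hx => ?_
  have h1 := h (zpowers x) (by rw [Nat.card_zpowers, hx])
  have h3 : centralizer ((zpowers x : Subgroup S) : Set S) = centralizer ({x} : Set S) := by
    rw [zpowers_eq_closure, centralizer_closure]
  rwa [h3] at h1

theorem HasC.of_pow {S : Type u} [Group S] {x : S} {r : ℕ} (hx : orderOf x = r)
    (h : ∀ c : S, c * x = x * c → ∃ i : ℕ, c = x ^ i) : HasC S r := by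
  refine ⟨x, ?_⟩
  have h1 : centralizer ({x} : Set S) = zpowers x := by
    apply le_antisymm
    · intro c hc
      obtain ⟨i, rfl⟩ := h c (mem_centralizer_singleton_iff.1 hc)
      exact pow_mem (mem_zpowers x) i
    · rw [zpowers_le]
      exact mem_centralizer_singleton_iff.2 rfl
  rw [h1, Nat.card_zpowers, hx]

section

variable {S : Type u} [Group S]

theorem c_m11 (h : Spor.IsoM11 S) : HasC S 11 := by
  obtain ⟨e⟩ := h
  exact HasC.of_self e H408.SporSelf.m11

theorem c_m12 (h : Spor.IsoM12 S) : HasC S 11 := by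
  obtain ⟨e⟩ := h
  exact HasC.of_self e H408.SporSelf.m12

theorem c_m22 (h : Spor.IsoM22 S) : HasC S 11 ∧ HasC S 7 := by
  obtain ⟨e⟩ := h
  refine ⟨HasC.of_self e H408.SporSelf.m22, HasC.congr e.symm ?_⟩
  have := H180.RV.m22_fin
  exact HasC.of_all (by norm_num) (by rw [NotCT.Orders.m22 ⟨MulEquiv.refl _⟩]; norm_num) H180.RV.m22_c7

theorem c_m23 (h : Spor.IsoM23 S) : HasC S 23 := by
  obtain ⟨e⟩ := h
  exact HasC.of_self e H408.SporSelf.m23

theorem c_m24 (h : Spor.IsoM24 S) : HasC S 23 := by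
  obtain ⟨e⟩ := h
  exact HasC.of_self e H408.SporSelf.m24

theorem c_j1 (h : Spor.IsoJ1 S) : HasC S 19 := by
  obtain ⟨e⟩ := h
  exact HasC.of_self e H408.SporSelf.j1

theorem c_j2 (h : Spor.IsoJ2 S) : HasC S 7 := by
  obtain ⟨e⟩ := h
  exact HasC.of_self e H408.SporSelf.j2

theorem c_j3 [Finite S] (h : Spor.IsoJ3 S) : HasC S 19 ∧ HasC S 17 := by
  have hc := NotCT.Orders.j3 h
  exact ⟨HasC.of_all (by norm_num) (by rw [hc]; norm_num) fun x hx => H898.J3Cent.card_nineteen h hx,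
    HasC.of_all (by norm_num) (by rw [hc]; norm_num) fun x hx => (H898.J3Cent.seventeen h hx).1⟩

theorem c_hs [Finite S] [IsSimpleGroup S] (h : Spor.IsoHS S) : HasC S 11 := by
  have hc := NotCT.Orders.hs h
  exact HasC.of_all (by norm_num) (by rw [hc]; norm_num) fun x hx => H547.SelfCent.McLHS.hs h (H393.Iso.na_hs h) hc hx

theorem c_mcl [Finite S] [IsSimpleGroup S] (h : Spor.IsoMcL S) : HasC S 11 := by
  have hc := NotCT.Orders.mcl h
  exact HasC.of_all (by norm_num) (by rw [hc]; norm_num) fun x hx => H547.SelfCent.McLHS.mcl h (H393.Iso.na_mcl h) hc hx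

theorem c_he (h : Spor.IsoHe S) : HasC S 17 := by
  obtain ⟨e⟩ := h
  exact HasC.of_self e H408.SporSelf.he

theorem c_fi22 (h : Spor.IsoFi22 S) : HasC S 13 := by
  obtain ⟨e⟩ := h
  exact HasC.of_self e H408.SporSelf.fi22

theorem c_fi23 (h : Spor.IsoFi23 S) : HasC S 23 := by
  obtain ⟨e⟩ := h
  exact HasC.of_self e H408.SporSelf.fi23

theorem c_fi24 (h : Spor.IsoFi24' S) : HasC S 29 := by
  obtain ⟨e⟩ := h
  exact HasC.of_self e H408.SporSelf.fi24

theorem c_j4 (h : Spor.IsoJ4 S) : HasC S 43 := by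
  obtain ⟨e⟩ := h
  exact HasC.of_self e H408.SporSelf.j4

theorem c_ru (h : Spor.IsoRu S) : HasC S 29 := by
  obtain ⟨e⟩ := h
  exact HasC.congr (e.trans RuLat.Main.equiv).symm
    (HasC.of_pow OddHalf.Table.OutRu.orderOf_x OddHalf.Table.OutRu.cent_x')

theorem c_suz (h : Spor.IsoSuz S) : HasC S 11 := by
  obtain ⟨e⟩ := h
  exact HasC.congr e.symm (HasC.of_pow OddHalf.Table.OutSuz.order_x OddHalf.Table.OutSuz.cent_x)

end

end Cfsg.Agent.H583.DPi
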