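import Cfsg.Agent.H583.DPi.Tool
import Cfsg.Agent.H524.SporSC
import Cfsg.Agent.H604.Cop.Conway

/-!
# S4247, sporadic rows: self-centralising elements of order 23 in the Conway groups (helper583; after H524/SporSC)
-/

set_option autoImplicit false
set_option linter.unusedSectionVars false

namespace Cfsg.Agent.H583.DPi

open Subgroup Cfsg

open Cfsg Cfsg.Spor Cfsg.Agent.LeechMat.Core Cfsg.Agent.SporadicA.GolayBase Cfsg.Agent.SporadicStructure.TabPerm
  Cfsg.Agent.CpAutBig.FixCount Cfsg.Agent.CpAutBig.Tab Cfsg.Agent.MonsterU.Lam2 Cfsg.Agent.CoOneType.ClosingFacts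
  Cfsg.Agent.CpAutBig in
open Cfsg.Agent.SporadicA.Co0Mono (signCo0 permCo0 permCo0_smul permMap_apply) in
open Cfsg.Agent.SporadicA.Co1Simple (allOne) in
open Cfsg.Agent.H604.Cop.Conway in
theorem c_of_inc {K : Type*} [Group K] [Finite K]
    (i : K →* Co0) (hi : Function.Injective i) (hc : 23 ∣ Nat.card K) (hZ : ∀ g : K, i g ≠ signCo0 allOne) :
    HasC K 23 := by
  have hfin := CoZero.finite_co0
  have h23 : Fact (Nat.Prime 23) := ⟨by norm_num⟩
  obtain ⟨z, hz⟩ := exists_prime_orderOf_dvd_card' 23 hc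
  have hz' : orderOf (i z) = 23 := by rw [orderOf_injective i hi, hz]
  refine ⟨z, (Cfsg.Agent.H604.Cop.Conway.card_eq hz ?_).trans hz⟩
  have h1 := card_cent_co0 hz'
  classical
  let f : ↥(centralizer ({z} : Set K)) × Bool → ↥(centralizer ({i z} : Set Co0)) := fun a =>
    ⟨i a.1 * (if a.2 then signCo0 allOne else 1), by
      have h2 := mem_centralizer_singleton_iff.1 a.1.2
      rw [mem_centralizer_singleton_iff]
      have h3 : i a.1 * i z = i z * i a.1 := by rw [← map_mul, h2, map_mul]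
      by_cases hb : a.2
      · rw [if_pos hb, mul_assoc, LThreeBX.NoSeven.n_comm, ← mul_assoc, h3, mul_assoc]
      · rw [if_neg hb, mul_one, h3]⟩
  have hf : Function.Injective f := by
    rintro ⟨a, s⟩ ⟨b, t⟩ h
    have h2 : i a * (if s then signCo0 allOne else 1) = i b * (if t then signCo0 allOne else 1) :=
      congrArg Subtype.val h
    have key : ∀ a b : K, i a * signCo0 allOne = i b → False := by
      intro a b hab
      apply hZ (a⁻¹ * b)
      rw [map_mul, map_inv, ← hab, inv_mul_cancel_left]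
    cases s <;> cases t
    · replace h2 : i a * 1 = i b * 1 := h2
      rw [Prod.mk.injEq]
      exact ⟨Subtype.ext (hi (mul_right_cancel h2)), rfl⟩
    · replace h2 : i a * 1 = i b * signCo0 allOne := h2
      rw [mul_one] at h2
      exact (key _ _ h2.symm).elim
    · replace h2 : i a * signCo0 allOne = i b * 1 := h2
      rw [mul_one] at h2
      exact (key _ _ h2).elim
    · replace h2 : i a * signCo0 allOne = i b * signCo0 allOne := h2
      rw [Prod.mk.injEq]
      exact ⟨Subtype.ext (hi (mul_right_cancel h2)), rfl⟩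
  have h2 := Nat.card_le_card_of_injective f hf
  rw [Nat.card_prod, Nat.card_eq_fintype_card (α := Bool), Fintype.card_bool] at h2
  omega

open Cfsg Cfsg.Spor Cfsg.Agent.LeechMat.Core Cfsg.Agent.SporadicA.GolayBase Cfsg.Agent.SporadicStructure.TabPerm
  Cfsg.Agent.CpAutBig.FixCount Cfsg.Agent.CpAutBig.Tab Cfsg.Agent.MonsterU.Lam2 Cfsg.Agent.CoOneType.ClosingFacts
  Cfsg.Agent.CpAutBig in
open Cfsg.Agent.SporadicA.Co0Mono (signCo0 permCo0 permCo0_smul permMap_apply) in
open Cfsg.Agent.SporadicA.Co1Simple (allOne) in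
theorem c_co2 {G : Type*} [Group G] (h : Spor.IsoCo2 G) : HasC G 23 := by
  obtain ⟨e⟩ := h
  have hf := H49.CoStab.finite_co2
  refine HasC.congr e.symm ?_
  let i : Spor.Co2 →* Co0 :=
    { toFun := fun g => ⟨g.1, g.2.1⟩, map_one' := rfl, map_mul' := fun _ _ => rfl }
  refine c_of_inc i
    (fun a b hab => Subtype.ext (congrArg (fun z : Co0 => (z : Equiv.Perm leechLattice)) hab))
    (by rw [H49.CoStab.card_co2]; norm_num) ?_
  intro g hg
  have h1 : i g • Spor.leechU = Spor.leechU := g.2.2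
  rw [hg] at h1
  have h2 := congrArg (fun u : leechLattice => (u : GolayPt → ℤ) none) h1
  rw [show ((signCo0 allOne : Co0) • Spor.leechU) = -Spor.leechU from Cfsg.Agent.SporadicA.Co1Simple.allOne_smul _] at h2
  have h3 : -((4 : ℤ)) = 4 := h2
  omega

open Cfsg Cfsg.Spor Cfsg.Agent.LeechMat.Core Cfsg.Agent.SporadicA.GolayBase Cfsg.Agent.SporadicStructure.TabPerm
  Cfsg.Agent.CpAutBig.FixCount Cfsg.Agent.CpAutBig.Tab Cfsg.Agent.MonsterU.Lam2 Cfsg.Agent.CoOneType.ClosingFacts
  Cfsg.Agent.CpAutBig in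
open Cfsg.Agent.SporadicA.Co0Mono (signCo0 permCo0 permCo0_smul permMap_apply) in
open Cfsg.Agent.SporadicA.Co1Simple (allOne) in
theorem c_co3 {G : Type*} [Group G] (h : Spor.IsoCo3 G) : HasC G 23 := by
  obtain ⟨e⟩ := h
  have hf := H49.CoStab.finite_co3
  refine HasC.congr e.symm ?_
  let i : Spor.Co3 →* Co0 :=
    { toFun := fun g => ⟨g.1, g.2.1⟩, map_one' := rfl, map_mul' := fun _ _ => rfl }
  refine c_of_inc i
    (fun a b hab => Subtype.ext (congrArg (fun z : Co0 => (z : Equiv.Perm leechLattice)) hab))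
    (by rw [H49.CoStab.card_co3]; norm_num) ?_
  intro g hg
  have h1 : i g • Spor.leechV = Spor.leechV := g.2.2
  rw [hg] at h1
  have h2 := congrArg (fun u : leechLattice => (u : GolayPt → ℤ) none) h1
  rw [show ((signCo0 allOne : Co0) • Spor.leechV) = -Spor.leechV from Cfsg.Agent.SporadicA.Co1Simple.allOne_smul _] at h2
  have h3 : -((-5 : ℤ)) = -5 := h2
  omega


open Cfsg.Agent.H604.Cop.Conway in
theorem c_co1 {G : Type*} [Group G] (h : Spor.IsoCo1 G) : HasC G 23 := by
  obtain ⟨e⟩ := h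
  have hf := BpSpor.MBigCo.finite_co1
  exact HasC.congr e.symm ⟨s23, (Cfsg.Agent.H604.Cop.Conway.card_eq orderOf_s23 card_cent_s23).trans orderOf_s23⟩

end Cfsg.Agent.H583.DPi
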