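import Cfsg.Agent.H583.DPi.Tool

/-!
# S4247, sporadic rows: closing tools (helper583)
-/

set_option autoImplicit false

namespace Cfsg.Agent.H583.DPi

open Subgroup Cfsg Cfsg.Agent.H988.CPi Cfsg.Agent.H571.RV Cfsg.Agent.H817.DPi Cfsg.Agent.OrdDiv
  Cfsg.Agent.H995.CopEngine

universe u v

/-- a simple group of composite order is not abelian -/
theorem na_comp {S : Type u} [Group S] [Finite S] [IsSimpleGroup S] {n : ℕ} (hn : Nat.card S = n) {a b : ℕ}
    (ha : a ≠ 1) (hb : b ≠ 1) (hab : a * b = n) : ¬ IsMulCommutative S := by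
  intro h
  have h2 : (Nat.card S).Prime := by
    let _ : CommGroup S := { (inferInstance : Group S) with mul_comm := h.is_comm.comm }
    exact IsSimpleGroup.prime_card
  rw [hn, ← hab] at h2
  rcases Nat.prime_mul_iff.1 h2 with ⟨-, h3⟩ | ⟨-, h3⟩
  · exact hb h3
  · exact ha h3

/-- the primes of `π` dividing `|S|` -/
theorem two_of {π : Set ℕ} {S : Type u} [Group S] {n : ℕ} {l : List (ℕ × ℕ)} (hv : valid l n = true)
    (hn : Nat.card S = n) {q : ℕ × ℕ → Bool} (hq : ∀ x, q x = true ↔ x.1 ∈ π) {r s : ℕ}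
    (hT : (l.filter q).map Prod.fst = [r, s]) : Two π r s S := by
  intro p hp hpp hpd
  rw [hn] at hpd
  obtain ⟨w, hw, -⟩ := exists_pair hv hpp (j := 1) le_rfl (by rw [pow_one]; exact hpd)
  have h1 : p ∈ (l.filter q).map Prod.fst := List.mem_map.2 ⟨_, List.mem_filter.2 ⟨hw, (hq _).2 hp⟩, rfl⟩
  rw [hT] at h1
  simpa using h1

/-- no element of order `s t`: no element of order `t` centralises a nontrivial `s`-subgroup -/
theorem nf_of_no {S : Type u} [Group S] [Finite S] {s t a : ℕ} (hs : s.Prime) (ht : t.Prime) (hst : s ≠ t) (ha : a ≠ 0)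
    (h : ∀ g : S, orderOf g ≠ s * t) : NF S s a t := by
  intro Q hQ y hy hc
  have : Fact s.Prime := ⟨hs⟩
  have h1 : s ∣ Nat.card Q := by rw [hQ]; exact dvd_pow_self s ha
  obtain ⟨x, hx⟩ := exists_prime_orderOf_dvd_card' s h1
  have hx' : orderOf (x : S) = s := by rw [← hx]; exact Subgroup.orderOf_coe x
  apply h ((x : S) * y)
  have hcom : Commute (x : S) y := hc x x.2
  rw [hcom.orderOf_mul_eq_mul_orderOf_of_coprime, hx', hy]
  rw [hx', hy]
  exact (Nat.coprime_primes hs ht).2 hst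

/-- **closing, no survivors** -/
theorem row_nil {n : ℕ} {l : List (ℕ × ℕ)} {c j : ℕ} {L : List ℕ} {HL : List (ℕ × List ℕ)} {nf : List (ℕ × ℕ)}
    (D : Dat n l c j L HL nf []) (hK : AllKnown.{u}) {S : Type u} [Group S] [Finite S]
    [IsSimpleGroup S] (hna : ¬ IsMulCommutative S) (hn : Nat.card S = n) (hout : (inn S).index ∣ c)
    (hj : ∀ b : S, (orderOf b).Prime → orderOf b ≠ 2 → ¬ 2 ^ j ∣ Nat.card (centralizer ({b} : Set S)))
    (hiso : ∀ p ∈ HL, HasC S p.1) (hnf : ∀ st ∈ nf, ∀ a, (st.1, a) ∈ l → NF S st.1 a st.2) (π : Set ℕ) :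
    Row π S := by
  intro P K B C _
  obtain ⟨q, k, h, -, h1, -⟩ := D.main hK hna hn hout hj hiso hnf C
  simp at h1

/-- from a bound for the `2`-parts -/
theorem hj_of_lt {S : Type u} [Group S] [Finite S] {j d : ℕ} (h : ∀ b : S, (orderOf b).Prime → orderOf b ≠ 2 →
    (Nat.card (centralizer ({b} : Set S))).factorization 2 + d < (Nat.card S).factorization 2) {n : ℕ}
    (hn : Nat.card S = n) (hj : n % 2 ^ (j + d + 1) ≠ 0) :
    ∀ b : S, (orderOf b).Prime → orderOf b ≠ 2 → ¬ 2 ^ j ∣ Nat.card (centralizer ({b} : Set S)) := by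
  intro b hb hb2 hd
  have h1 := h b hb hb2
  have h2 : j ≤ (Nat.card (centralizer ({b} : Set S))).factorization 2 :=
    (Nat.prime_two.pow_dvd_iff_le_factorization Nat.card_pos.ne').1 hd
  apply hj
  apply Nat.mod_eq_zero_of_dvd
  rw [← hn]
  rw [Nat.prime_two.pow_dvd_iff_le_factorization Nat.card_pos.ne']
  omega

end Cfsg.Agent.H583.DPi
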