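import Cfsg.Agent.H583.DPi.Tool

/-!
# S4247, sporadic rows: numerical data (helper583)

Machine generated.
-/

set_option autoImplicit false
set_option maxRecDepth 100000

namespace Cfsg.Agent.H583.DPi.DataA

open Cfsg.Agent.H583.DPi Cfsg.Agent.OrdDiv

/-- `m11` -/
theorem m11 : Dat 7920
    [(2, 4), (3, 2), (5, 1), (11, 1)]
    2 5
    [60, 360, 660, 7920]
    [(11, [11, 55, 660])]
    []
    [([5, 11], 72, 2), ([5, 11], 144, 1)] where
  v := by decide +kernel
  nd := by decide +kernel
  l1 := by decide +kernel
  c2 := Or.inr rfl
  ck := by decide +kernel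
  pr := by decide +kernel
  hs := by decide +kernel
  np := by decide +kernel
  a := by decide +kernel
  b := by decide +kernel

/-- `m12` -/
theorem m12 : Dat 95040
    [(2, 6), (3, 3), (5, 1), (11, 1)]
    2 7
    [60, 360, 660, 7920, 95040]
    [(11, [11, 55, 660, 7920])]
    []
    [([5, 11], 864, 2), ([5, 11], 1728, 1)] where
  v := by decide +kernel
  nd := by decide +kernel
  l1 := by decide +kernel
  c2 := Or.inr rfl
  ck := by decide +kernel
  pr := by decide +kernel
  hs := by decide +kernel
  np := by decide +kernel
  a := by decide +kernel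
  b := by decide +kernel

/-- `m22` -/
theorem m22 : Dat 443520
    [(2, 7), (3, 2), (5, 1), (7, 1), (11, 1)]
    2 8
    [60, 168, 360, 504, 660, 2520, 7920, 20160, 443520]
    [(11, [11, 55, 660, 7920]), (7, [7, 21, 56, 168, 448, 1344, 2520, 20160])]
    []
    [] where
  v := by decide +kernel
  nd := by decide +kernel
  l1 := by decide +kernel
  c2 := Or.inr rfl
  ck := by decide +kernel
  pr := by decide +kernel
  hs := by decide +kernel
  np := by decide +kernel
  a := by decide +kernel
  b := by decide +kernel

/-- `m23` -/
theorem m23 : Dat 10200960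
    [(2, 7), (3, 2), (5, 1), (7, 1), (11, 1), (23, 1)]
    1 7
    [60, 168, 360, 504, 660, 2520, 6072, 7920, 20160, 443520, 10200960]
    [(23, [23, 253, 6072])]
    []
    [([11, 23], 40320, 1)] where
  v := by decide +kernel
  nd := by decide +kernel
  l1 := by decide +kernel
  c2 := Or.inl rfl
  ck := by decide +kernel
  pr := by decide +kernel
  hs := by decide +kernel
  np := by decide +kernel
  a := by decide +kernel
  b := by decide +kernel

/-- `m24` -/
theorem m24 : Dat 244823040
    [(2, 10), (3, 3), (5, 1), (7, 1), (11, 1), (23, 1)]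
    1 10
    [60, 168, 360, 504, 660, 2520, 6048, 6072, 7920, 20160, 95040, 443520, 10200960, 244823040]
    [(23, [23, 253, 6072, 10200960])]
    []
    [([11, 23], 967680, 1)] where
  v := by decide +kernel
  nd := by decide +kernel
  l1 := by decide +kernel
  c2 := Or.inl rfl
  ck := by decide +kernel
  pr := by decide +kernel
  hs := by decide +kernel
  np := by decide +kernel
  a := by decide +kernel
  b := by decide +kernel

/-- `j1` -/
theorem j1 : Dat 175560
    [(2, 3), (3, 1), (5, 1), (7, 1), (11, 1), (19, 1)]
    2 4
    [60, 168, 660, 175560]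
    [(19, [19, 38, 57, 114]), (7, [7, 14, 21, 42, 56, 168])]
    []
    [] where
  v := by decide +kernel
  nd := by decide +kernel
  l1 := by decide +kernel
  c2 := Or.inr rfl
  ck := by decide +kernel
  pr := by decide +kernel
  hs := by decide +kernel
  np := by decide +kernel
  a := by decide +kernel
  b := by decide +kernel

/-- `j2` -/
theorem j2 : Dat 604800
    [(2, 7), (3, 3), (5, 2), (7, 1)]
    2 8
    [60, 168, 360, 504, 2520, 6048, 20160, 604800]
    [(7, [7, 14, 21, 42, 56, 112, 168, 336, 448, 504, 896, 1344, 1512, 2520, 2688, 4032, 5040, 6048, 12096, 20160, 40320])]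
    []
    [([3, 5], 7, 128), ([3, 5], 14, 64), ([3, 5], 56, 16), ([3, 5], 112, 8), ([3, 5], 448, 2), ([3, 5], 896, 1)] where
  v := by decide +kernel
  nd := by decide +kernel
  l1 := by decide +kernel
  c2 := Or.inr rfl
  ck := by decide +kernel
  pr := by decide +kernel
  hs := by decide +kernel
  np := by decide +kernel
  a := by decide +kernel
  b := by decide +kernel

/-- `j3` -/
theorem j3 : Dat 50232960
    [(2, 7), (3, 5), (5, 1), (17, 1), (19, 1)]
    2 8
    [60, 360, 2448, 3420, 4080, 25920, 50232960]
    [(19, [19, 57, 171, 3420]), (17, [17, 34, 68, 136, 2448, 4080, 8160, 16320])]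
    []
    [] where
  v := by decide +kernel
  nd := by decide +kernel
  l1 := by decide +kernel
  c2 := Or.inr rfl
  ck := by decide +kernel
  pr := by decide +kernel
  hs := by decide +kernel
  np := by decide +kernel
  a := by decide +kernel
  b := by decide +kernel

/-- `hs` -/
theorem hs : Dat 44352000
    [(2, 9), (3, 2), (5, 3), (7, 1), (11, 1)]
    2 8
    [60, 168, 360, 504, 660, 2520, 7920, 20160, 126000, 443520, 44352000]
    [(11, [11, 55, 660, 7920, 443520])]
    []
    [] where
  v := by decide +kernel
  nd := by decide +kernel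
  l1 := by decide +kernel
  c2 := Or.inr rfl
  ck := by decide +kernel
  pr := by decide +kernel
  hs := by decide +kernel
  np := by decide +kernel
  a := by decide +kernel
  b := by decide +kernel

/-- `mcl` -/
theorem mcl : Dat 898128000
    [(2, 7), (3, 6), (5, 3), (7, 1), (11, 1)]
    2 6
    [60, 168, 360, 504, 660, 2520, 6048, 7920, 20160, 25920, 95040, 126000, 181440, 443520, 604800, 1814400, 3265920, 19958400, 898128000]
    [(11, [11, 55, 660, 2673, 7920, 13365, 95040, 160380, 443520, 19958400])]
    []
    [] where
  v := by decide +kernel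
  nd := by decide +kernel
  l1 := by decide +kernel
  c2 := Or.inr rfl
  ck := by decide +kernel
  pr := by decide +kernel
  hs := by decide +kernel
  np := by decide +kernel
  a := by decide +kernel
  b := by decide +kernel

/-- `he` -/
theorem he : Dat 4030387200
    [(2, 10), (3, 3), (5, 2), (7, 3), (17, 1)]
    2 11
    [60, 168, 360, 504, 2448, 2520, 4080, 6048, 20160, 58800, 604800, 979200, 4030387200]
    [(17, [17, 34, 68, 136, 2448, 4080, 4352, 8160, 8704, 16320, 17408, 979200, 1958400])]
    [(5, 7), (7, 5)]
    [] where
  v := by decide +kernel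
  nd := by decide +kernel
  l1 := by decide +kernel
  c2 := Or.inr rfl
  ck := by decide +kernel
  pr := by decide +kernel
  hs := by decide +kernel
  np := by decide +kernel
  a := by decide +kernel
  b := by decide +kernel

/-- `tits` -/
theorem tits : Dat 17971200
    [(2, 11), (3, 3), (5, 2), (13, 1)]
    2 12
    [60, 360, 5616, 7800, 62400, 17971200]
    [(13, [13, 26, 39, 78, 351, 702, 5616, 7800, 11232, 23400, 62400, 124800])]
    [(5, 2)]
    [([3, 13], 25600, 2), ([3, 13], 51200, 1)] where
  v := by decide +kernel
  nd := by decide +kernel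
  l1 := by decide +kernel
  c2 := Or.inr rfl
  ck := by decide +kernel
  pr := by decide +kernel
  hs := by decide +kernel
  np := by decide +kernel
  a := by decide +kernel
  b := by decide +kernel

end Cfsg.Agent.H583.DPi.DataA
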