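import Cfsg.Agent.H583.DPi.Tool

/-!
# S4247, sporadic rows: numerical data (helper583)

Machine generated.
-/

set_option autoImplicit false
set_option maxRecDepth 100000

namespace Cfsg.Agent.H583.DPi.DataF

open Cfsg.Agent.H583.DPi Cfsg.Agent.OrdDiv

/-- `fi23` -/
theorem fi23 : Dat 4089470473293004800
    [(2, 18), (3, 13), (5, 2), (7, 1), (11, 1), (13, 1), (17, 1), (23, 1)]
    2 19
    [60, 168, 360, 504, 660, 1092, 2448, 2520, 4080, 5616, 6048, 6072, 7800, 7920, 9828, 20160, 25920, 29120, 62400, 95040, 181440, 262080, 443520, 604800, 979200, 1451520, 1814400, 3265920, 4245696, 6065280, 10200960, 13685760, 17971200, 19958400, 42456960, 174182400, 197406720, 239500800, 244823040, 251596800, 987033600, 1425715200, 3113510400, 4585351680, 9196830720, 47377612800, 448345497600, 4952179814400, 64561751654400, 4089470473293004800]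
    [(23, [23, 253, 6072, 47104, 518144, 4074381, 10200960, 12435456, 44818191, 244823040, 1075636584, 8344332288, 20891566080, 91787655168, 1807069461120, 2202903724032, 3700878256373760]), (17, [17, 34, 68, 136, 272, 2448, 4080, 4352, 4896, 8160, 8704, 16320, 17408, 32640, 34816, 69632, 626688, 979200, 1044480, 1114112, 1253376, 1958400, 2088960, 2228224, 3916800, 4177920, 4456448, 8355840, 197406720, 250675200, 394813440, 501350400, 789626880, 1002700800, 47377612800, 94755225600])]
    []
    [] where
  v := by decide +kernel
  nd := by decide +kernel
  l1 := by decide +kernel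
  c2 := Or.inr rfl
  ck := by decide +kernel
  pr := by decide +kernel
  hs := by decide +kernel
  np := by decide +kernel
  a := by decide +kernel
  b := by decide +kernel

/-- `fi24p` -/
theorem fi24p : Dat 1255205709190661721292800
    [(2, 21), (3, 16), (5, 2), (7, 3), (11, 1), (13, 1), (17, 1), (23, 1), (29, 1)]
    2 22
    [60, 168, 360, 504, 660, 1092, 2448, 2520, 4080, 5616, 6048, 6072, 7800, 7920, 9828, 12180, 20160, 25920, 29120, 58800, 62400, 95040, 181440, 262080, 443520, 604800, 979200, 1451520, 1814400, 3265920, 4245696, 6065280, 10200960, 13685760, 17971200, 19958400, 42456960, 174182400, 197406720, 211341312, 239500800, 244823040, 251596800, 987033600, 1056706560, 1425715200, 3113510400, 4030387200, 4585351680, 9196830720, 43589145600, 47377612800, 448345497600, 4952179814400, 25015379558400, 64561751654400, 4089470473293004800, 1255205709190661721292800]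
    [(29, [29, 58, 203, 406, 12180]), (17, [17, 34, 68, 136, 272, 2448, 4080, 4352, 4896, 8160, 8704, 16320, 17408, 32640, 34816, 69632, 626688, 979200, 1044480, 1114112, 1253376, 1958400, 2088960, 2228224, 3916800, 4177920, 4456448, 8355840, 8912896, 17825792, 160432128, 197406720, 250675200, 267386880, 320864256, 394813440, 501350400, 534773760, 731794257, 789626880, 1002700800, 1463588514, 2927177028, 4030387200, 5854354056, 8060774400, 11708708112, 47377612800, 50536120320, 94755225600, 101072240640, 187339329792, 374678659584, 749357319168, 1031779123200, 1498714638336, 2063558246400, 2997429276672, 25015379558400, 47958868426752, 50030759116800, 95917736853504, 191835473707008, 383670947414016, 767341894828032, 4089470473293004800])]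
    []
    [] where
  v := by decide +kernel
  nd := by decide +kernel
  l1 := by decide +kernel
  c2 := Or.inr rfl
  ck := by decide +kernel
  pr := by decide +kernel
  hs := by decide +kernel
  np := by decide +kernel
  a := by decide +kernel
  b := by decide +kernel

end Cfsg.Agent.H583.DPi.DataF
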