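import Cfsg.Agent.H583.DPi.Tool

/-!
# S4247, sporadic rows: numerical data (helper583)

Machine generated.
-/

set_option autoImplicit false
set_option maxRecDepth 100000

namespace Cfsg.Agent.H583.DPi.DataM

open Cfsg.Agent.H583.DPi Cfsg.Agent.OrdDiv

/-- `m` -/
theorem m : Dat 808017424794512875886459904961710757005754368000000000
    [(2, 46), (3, 20), (5, 9), (7, 6), (11, 2), (13, 3), (17, 1), (19, 1), (23, 1), (29, 1), (31, 1), (41, 1), (47, 1), (59, 1), (71, 1)]
    2 47
    [60, 168, 360, 504, 660, 1092, 2448, 2520, 3420, 4080, 5616, 6048, 6072, 7800, 7920, 9828, 12180, 14880, 20160, 25920, 29120, 32736, 34440, 51888, 58800, 62400, 95040, 102660, 126000, 175560, 178920, 181440, 262080, 265680, 372000, 443520, 604800, 976500, 979200, 1451520, 1814400, 1876896, 2413320, 3265920, 4245696, 4680000, 5515776, 6065280, 9999360, 10200960, 13685760, 17971200, 19958400, 32537600, 42456960, 44352000, 50232960, 138297600, 174182400, 197406720, 211341312, 239500800, 244823040, 251596800, 898128000, 987033600, 1018368000, 1056706560, 1073740800, 1425715200, 1721606400, 3113510400, 4030387200, 4585351680, 5859000000, 7254000000, 9196830720, 14742000000, 20158709760, 43589145600, 47377612800, 50778000000, 145926144000, 237783237120, 448345497600,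 460815505920, 495766656000, 653837184000, 2317591180800, 4106059776000, 4952179814400, 10151968619520, 10461394944000, 23499295948800, 25015379558400, 34693789777920, 42305421312000, 50759843097600, 53443952640000, 64561751654400, 177843714048000, 228501000000000, 258492255436800, 273030912000000, 3201186852864000, 3311126603366400, 21032402889738240, 24815256521932800, 60822550204416000, 65784756654489600, 90745943887872000, 1216451004088320000, 4089470473293004800, 4157776806543360000, 25545471085854720000, 50027557148216524800, 51615733565620224000, 361310134959341568000, 562000363888803840000, 1120527288631296000000, 1289512799941305139200, 12926008369442488320000, 76532479683774853939200, 208114637736580743168000, 310224200866619719680000, 1255205709190661721292800, 7755605021665492992000000, 201645730563302817792000000, 5444434725209176080384000000, 152444172305856930250752000000, 4420880996869850977271808000000, 132626429906095529318154240000000, 4111419327088961408862781440000000, 4154781481226426191177580544000000, 131565418466846765083609006080000000, 808017424794512875886459904961710757005754368000000000]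
    [(59, [59, 1711, 102660]), (71, [71, 355, 497, 2485, 178920, 221875, 1109375, 1553125, 7765625, 559125000, 2439541424128, 12197707120640, 17076789968896, 85383949844480, 6147644388802560, 7623566950400000, 38117834752000000, 53364968652800000, 266824843264000000, 19211388715008000000])]
    []
    [] where
  v := by decide +kernel
  nd := by decide +kernel
  l1 := by decide +kernel
  c2 := Or.inr rfl
  ck := by decide +kernel
  pr := by decide +kernel
  hs := by decide +kernel
  np := by decide +kernel
  a := by decide +kernel
  b := by decide +kernel

end Cfsg.Agent.H583.DPi.DataM
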