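import Cfsg.Agent.H817.DPi.Def
import Cfsg.Agent.Lib.ProductSet

/-!
# Numerical facts of the configuration of S4247 (helper583, for the sporadic rows)
-/

set_option autoImplicit false

namespace Cfsg.Agent.H583.DPi

open Subgroup Cfsg Cfsg.Agent.H988.CPi Cfsg.Agent.H571.RV Cfsg.Agent.H817.DPi
open scoped Pointwise

universe u

variable {π : Set ℕ} {S : Type u} [Group S] [Finite S] {P : Subgroup S} {K B : Subgroup (MulAut S)}

/-- the inner part -/
def ip (B : Subgroup (MulAut S)) : Subgroup S := B.comap MulAut.conj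

theorem conj_inj [IsSimpleGroup S] (hna : ¬ IsMulCommutative S) :
    Function.Injective (MulAut.conj : S →* MulAut S) := by
  rw [← MonoidHom.ker_eq_bot_iff]
  rcases (inferInstance : (MulAut.conj : S →* MulAut S).ker.Normal).eq_bot_or_eq_top with h | h
  · exact h
  · exfalso
    apply hna
    refine ⟨⟨fun x y => ?_⟩⟩
    have h1 : x ∈ (MulAut.conj : S →* MulAut S).ker := by rw [h]; trivial
    have h2 : MulAut.conj x y = y := by rw [MonoidHom.mem_ker.1 h1]; rfl
    rw [MulAut.conj_apply] at h2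
    exact mul_inv_eq_iff_eq_mul.1 h2

theorem card_ip (hinj : Function.Injective (MulAut.conj : S →* MulAut S)) (B : Subgroup (MulAut S)) :
    Nat.card (ip B) = Nat.card (B ⊓ inn S : Subgroup (MulAut S)) := by
  have h1 : (ip B).map MulAut.conj = B ⊓ inn S := by
    unfold ip inn
    rw [map_comap_eq, inf_comm]
  rw [← h1, card_map_of_injective hinj]

theorem card_ip_dvd (hinj : Function.Injective (MulAut.conj : S →* MulAut S)) (B : Subgroup (MulAut S)) :
    Nat.card (ip B) ∣ Nat.card B := by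
  rw [card_ip hinj]
  exact card_dvd_of_le inf_le_left

/-- `|B inn S| |B ∩ inn S| = |B| |S|` -/
theorem card_sup_inn (hinj : Function.Injective (MulAut.conj : S →* MulAut S)) (B : Subgroup (MulAut S)) :
    Nat.card (B ⊔ inn S : Subgroup (MulAut S)) * Nat.card (ip B) = Nat.card B * Nat.card S := by
  rw [card_ip hinj]
  have h1 := Cfsg.Agent.Lib.ProductSet.card_mul_card_inf B (inn S)
  have h2 : Nat.card (inn S) = Nat.card S := by
    have : inn S = (⊤ : Subgroup S).map MulAut.conj := MonoidHom.range_eq_map _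
    rw [this, card_map_of_injective hinj, card_top]
  rw [h2] at h1
  rw [← h1]
  congr 1
  have h3 : ((B ⊔ inn S : Subgroup (MulAut S)) : Set (MulAut S)) = (B : Set (MulAut S)) * (inn S : Set (MulAut S)) :=
    (mul_normal B (inn S))
  rw [← h3]; rfl

variable (C : Cfg π P K B)

include C in
theorem ip_le_centralizer : ip K ≤ centralizer (P : Set S) := by
  intro x hx
  rw [mem_centralizer_iff]
  intro y hy
  have h1 : MulAut.conj x y = y := C.fix _ hx y hy
  rw [MulAut.conj_apply] at h1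
  exact (mul_inv_eq_iff_eq_mul.1 h1).symm

include C in
/-- **The order formula.** -/
theorem card_eq (hinj : Function.Injective (MulAut.conj : S →* MulAut S)) :
    Nat.card S = Nat.card P * B.relIndex K * Nat.card (ip B) := by
  classical
  -- `A = conj P × K`
  have hcomm : ∀ x ∈ P, ∀ κ ∈ K, MulAut.conj x * κ = κ * MulAut.conj x := by
    intro x hx κ hκ
    ext y
    simp only [MulAut.mul_apply, MulAut.conj_apply, map_mul, map_inv, C.fix κ hκ x hx]
  let A : Subgroup (MulAut S) :=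
    { carrier := {g | ∃ x ∈ P, ∃ κ ∈ K, g = MulAut.conj x * κ}
      mul_mem' := by
        rintro _ _ ⟨x, hx, κ, hκ, rfl⟩ ⟨x', hx', κ', hκ', rfl⟩
        refine ⟨x * x', mul_mem hx hx', κ * κ', mul_mem hκ hκ', ?_⟩
        rw [map_mul, mul_assoc, ← mul_assoc κ, ← hcomm x' hx' κ hκ]
        simp only [mul_assoc]
      one_mem' := ⟨1, one_mem _, 1, one_mem _, by simp⟩
      inv_mem' := by
        rintro _ ⟨x, hx, κ, hκ, rfl⟩
        refine ⟨x⁻¹, inv_mem hx, κ⁻¹, inv_mem hκ, ?_⟩
        rw [mul_inv_rev, hcomm x⁻¹ (inv_mem hx) κ⁻¹ (inv_mem hκ), map_inv] }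
  have hPA : P.map MulAut.conj ≤ A := by
    rintro _ ⟨x, hx, rfl⟩
    exact ⟨x, hx, 1, one_mem _, by simp⟩
  have hKA : K ≤ A := fun κ hκ => ⟨1, one_mem _, κ, hκ, by simp⟩
  have hset : (A : Set (MulAut S)) = ((P.map MulAut.conj : Subgroup (MulAut S)) : Set (MulAut S)) * (K : Set (MulAut S)) := by
    ext g
    rw [Set.mem_mul]
    constructor
    · rintro ⟨x, hx, κ, hκ, rfl⟩
      exact ⟨MulAut.conj x, ⟨x, hx, rfl⟩, κ, hκ, rfl⟩
    · rintro ⟨_, ⟨x, hx, rfl⟩, κ, hκ, rfl⟩
      exact ⟨x, hx, κ, hκ, rfl⟩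
  have hPπ : PiN π (Nat.card P) := C.hall.1
  have hcardP : Nat.card (P.map MulAut.conj : Subgroup (MulAut S)) = Nat.card P := card_map_of_injective hinj
  have hinf : (P.map MulAut.conj : Subgroup (MulAut S)) ⊓ K = ⊥ := by
    apply inf_eq_bot_of_coprime
    rw [hcardP]
    exact PiN.coprime hPπ C.piK
  have hcardA : Nat.card A = Nat.card P * Nat.card K := by
    have h1 := Cfsg.Agent.Lib.ProductSet.card_mul_card_inf (P.map MulAut.conj : Subgroup (MulAut S)) K
    rw [hinf, card_bot, mul_one, hcardP] at h1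
    rw [← h1, ← hset]; rfl
  -- `A ∩ B = K ∩ B`
  have hAB : A ⊓ B = B ⊓ K := by
    apply le_antisymm
    · rintro g ⟨⟨x, hx, κ, hκ, rfl⟩, hgB⟩
      have h1 : orderOf (MulAut.conj x * κ) ∣ Nat.card B := by
        have := orderOf_dvd_natCard (⟨_, hgB⟩ : B)
        rwa [orderOf_mk] at this
      have hc : Commute (MulAut.conj x) κ := hcomm x hx κ hκ
      have h2 : orderOf (MulAut.conj x) ∣ Nat.card P := by
        rw [orderOf_injective _ hinj]
        have := orderOf_dvd_natCard (⟨_, hx⟩ : P)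
        rwa [orderOf_mk] at this
      have h3 : orderOf κ ∣ Nat.card K := by
        have := orderOf_dvd_natCard (⟨_, hκ⟩ : K)
        rwa [orderOf_mk] at this
      have h4 : (orderOf (MulAut.conj x)).Coprime (orderOf κ) :=
        Nat.Coprime.coprime_dvd_left h2 (Nat.Coprime.coprime_dvd_right h3 (PiN.coprime hPπ C.piK))
      have h5 := hc.orderOf_mul_eq_mul_orderOf_of_coprime h4
      have h6 : orderOf (MulAut.conj x) ∣ Nat.card B := (Dvd.intro _ rfl).trans (h5 ▸ h1)
      have h7 : orderOf (MulAut.conj x) = 1 :=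
        eq_one_of_both (hPπ.of_dvd h2) (C.piB.of_dvd h6)
      have h8 : MulAut.conj x = 1 := orderOf_eq_one_iff.1 h7
      rw [h8, one_mul] at hgB ⊢
      exact ⟨hgB, hκ⟩
    · exact le_inf (inf_le_right.trans hKA) inf_le_left
  have hΓ : ((B ⊔ inn S : Subgroup (MulAut S)) : Set (MulAut S)) = (A : Set (MulAut S)) * (B : Set (MulAut S)) := by
    ext g
    rw [Set.mem_mul]
    constructor
    · intro hg
      obtain ⟨x, hx, κ, hκ, b, hb, rfl⟩ := C.fac g hg
      exact ⟨_, ⟨x, hx, κ, hκ, rfl⟩, b, hb, rfl⟩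
    · rintro ⟨_, ⟨x, hx, κ, hκ, rfl⟩, b, hb, rfl⟩
      refine mul_mem (mul_mem ?_ ?_) ?_
      · exact mem_sup_right ⟨x, rfl⟩
      · rw [← C.sup]; exact mem_sup_left hκ
      · exact mem_sup_left hb
  have h1 := Cfsg.Agent.Lib.ProductSet.card_mul_card_inf A B
  rw [← hΓ, hcardA, hAB] at h1
  have h2 := card_sup_inn hinj B
  have h3 : Nat.card ((B ⊔ inn S : Subgroup (MulAut S)) : Set (MulAut S)) = Nat.card (B ⊔ inn S : Subgroup (MulAut S)) := rfl
  rw [h3] at h1
  have h4 : Nat.card (B ⊓ K : Subgroup (MulAut S)) * B.relIndex K = Nat.card K := by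
    have := relIndex_mul_relIndex ⊥ (B ⊓ K) K bot_le inf_le_right
    rw [relIndex_bot_left, inf_relIndex_right, relIndex_bot_left] at this
    exact this
  have hb : 0 < Nat.card B := Nat.card_pos
  have hi : 0 < Nat.card (B ⊓ K : Subgroup (MulAut S)) := Nat.card_pos
  have hG : Nat.card (B ⊔ inn S : Subgroup (MulAut S)) = Nat.card P * B.relIndex K * Nat.card B := by
    apply Nat.eq_of_mul_eq_mul_right hi
    rw [h1, ← h4]; ring
  rw [hG] at h2
  apply Nat.eq_of_mul_eq_mul_left hb
  rw [← h2]; ring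

end Cfsg.Agent.H583.DPi
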