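import Cfsg.Agent.H167.RV.Hall

/-!
# S4247, sporadic rows: pairs of primes (helper583)
-/

set_option autoImplicit false

namespace Cfsg.Agent.H583.DPi

open Subgroup Cfsg Cfsg.Agent.H988.CPi Cfsg.Agent.H553.OddHall

universe u

variable {G : Type u} [Group G] [Finite G] {π : Set ℕ}

/-- Sylow counting -/
theorem pairN_of_num {s t a : ℕ} (hs : s.Prime) (ht : t.Prime) (hst : s ≠ t) (ha : ¬ s ^ (a + 1) ∣ Nat.card G)
    (hi : ∀ i, 1 ≤ i → i ≤ a → s ^ i % t ≠ 1) : PairN t s G := by
  have htf : Fact t.Prime := ⟨ht⟩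
  apply PairN.of_sylow ht
  intro X hX
  obtain ⟨T⟩ : Nonempty (Sylow t X) := inferInstance
  refine ⟨T, ?_⟩
  have h1 : Nat.card (Sylow t X) ∣ (T : Subgroup X).index := T.card_dvd_index
  have h2 : Nat.card (Sylow t X) ≡ 1 [MOD t] := card_sylow_modEq_one t X
  -- the index is a power of `s`
  have h3 : ∀ p : ℕ, p.Prime → p ∣ (T : Subgroup X).index → p = s := by
    intro p hp hpd
    have h4 : p ∣ Nat.card X := hpd.trans (index_dvd_card _)
    have h5 := hX.1 p hp h4
    rcases h5 with h5 | h5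
    · exact h5
    · exfalso
      rw [Set.mem_singleton_iff] at h5
      rw [h5] at hpd
      exact T.not_dvd_index hpd
  have h4 : ∃ i, Nat.card (Sylow t X) = s ^ i := by
    have h5 : ∀ p : ℕ, p.Prime → p ∣ Nat.card (Sylow t X) → p = s := fun p hp hpd => h3 p hp (hpd.trans h1)
    exact ⟨_, Nat.eq_prime_pow_of_unique_prime_dvd Nat.card_pos.ne' (fun {p} hp hpd => h5 p hp hpd)⟩
  obtain ⟨i, hic⟩ := h4
  have h5 : i = 0 := by
    by_contra h0
    have h6 : i ≤ a := by
      by_contra hlt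
      apply ha
      refine (pow_dvd_pow s (show a + 1 ≤ i by omega)).trans ?_
      rw [← hic]
      exact (h1.trans (index_dvd_card _)).trans (card_subgroup_dvd_card X)
    apply hi i (by omega) h6
    rw [hic] at h2
    have h7 : s ^ i % t = 1 % t := h2
    rw [h7, Nat.mod_eq_of_lt ht.one_lt]
  rw [h5, pow_zero] at hic
  have h6 : Subsingleton (Sylow t X) := (Nat.card_eq_one_iff_unique.1 hic).1
  exact T.normal_of_subsingleton

/-- **nilpotency from the pairs** -/
theorem nilpotent_of_pairs (h2 : 2 ∉ π) {P : Subgroup G} (hP : IsPiHall π P)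
    (h : ∀ s t : ℕ, s.Prime → t.Prime → s ≠ t → s ∈ π → t ∈ π → s ∣ Nat.card G → t ∣ Nat.card G → PairN t s G) :
    Group.IsNilpotent P := by
  have h1 : ∀ (p : ℕ) (_ : Fact p.Prime) (T : Sylow p P), (T : Subgroup P).Normal := by
    intro p hp T
    by_cases hpP : p ∣ Nat.card P
    · have hpπ : p ∈ π := hP.1 p hp.out hpP
      have hpG : p ∣ Nat.card G := hpP.trans (card_subgroup_dvd_card P)
      exact (ns_of_pairs h2 hp.out hpπ (fun s hs hsπ hsp hsG => h s p hs hp.out hsp hsπ hpπ hsG hpG) hP).sylow_normal T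
    · have : (T : Subgroup P) = ⊥ := by
        apply Subgroup.card_eq_one.1
        have h2 := T.card_eq_multiplicity
        rw [Nat.factorization_eq_zero_of_not_dvd hpP, pow_zero] at h2
        exact h2
      rw [this]; infer_instance
  have h3 := (Group.isNilpotent_of_finite_tfae (G := P)).out 3 0
  exact h3.1 h1

/-- the Sylow `s`-subgroup of `P` is centralised by an element of order `t` -/
theorem exists_cent (h2 : 2 ∉ π) {P : Subgroup G} (hP : IsPiHall π P) {s t a : ℕ} (hs : s.Prime) (ht : t.Prime)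
    (hst : s ≠ t) (hsπ : s ∈ π) (htπ : t ∈ π) (hsa : s ^ a ∣ Nat.card G) (ha : ¬ s ^ (a + 1) ∣ Nat.card G)
    (htG : t ∣ Nat.card G) (h : PairN t s G) (h' : PairN s t G) :
    ∃ Q : Subgroup G, Nat.card Q = s ^ a ∧ ∃ y : G, orderOf y = t ∧ ∀ x ∈ Q, x * y = y * x := by
  have hsf : Fact s.Prime := ⟨hs⟩
  have htf : Fact t.Prime := ⟨ht⟩
  obtain ⟨X, -, hX, -⟩ := Cfsg.Agent.H167.RV.exists_hall_over hs h2 hP hsπ htπ (S := ⊥) bot_le IsPGroup.of_bot
  obtain ⟨U, hU, hUp, hUi⟩ := h X hX
  obtain ⟨T, hT, hTp, hTi⟩ := h' X (by rw [Set.pair_comm]; exact hX)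
  have htX : t ∣ Nat.card X := by
    rw [← X.card_mul_index] at htG
    rcases ht.dvd_mul.1 htG with h | h
    · exact h
    · exact absurd h (hX.2 t ht (by simp))
  have htU : t ∣ Nat.card U := by
    rw [← U.card_mul_index] at htX
    rcases ht.dvd_mul.1 htX with h | h
    · exact h
    · exact absurd h hUi
  obtain ⟨y, hy⟩ := exists_prime_orderOf_dvd_card' t htU
  refine ⟨T.map X.subtype, ?_, ((y : X) : G), ?_, ?_⟩
  · rw [card_map_of_injective X.subtype_injective]
    obtain ⟨b, hb⟩ := hTp.exists_card_eq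
    have h3 : Nat.card G = s ^ b * (T.index * X.index) := by
      rw [← hb, ← mul_assoc, T.card_mul_index, X.card_mul_index]
    have h4 : ¬ s ∣ T.index * X.index := by
      rw [hs.dvd_mul, not_or]
      exact ⟨hTi, hX.2 s hs (by simp)⟩
    have h5 : a ≤ b := by
      have h6 : s ^ a ∣ s ^ b := by
        refine Nat.Coprime.dvd_of_dvd_mul_right ?_ (h3 ▸ hsa)
        exact Nat.Coprime.pow_left _ ((Nat.Prime.coprime_iff_not_dvd hs).2 h4)
      exact (Nat.pow_dvd_pow_iff_le_right hs.one_lt).1 h6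
    have h6 : b ≤ a := by
      by_contra hlt
      apply ha
      rw [h3]
      exact (pow_dvd_pow s (by omega)).mul_right _
    rw [hb, le_antisymm h6 h5]
  · rw [Subgroup.orderOf_coe, Subgroup.orderOf_coe, hy]
  · rintro _ ⟨x, hx, rfl⟩
    have h3 : Disjoint T U := by
      apply disjoint_of_coprime_natCard
      obtain ⟨b, hb⟩ := hTp.exists_card_eq
      obtain ⟨c, hc⟩ := hUp.exists_card_eq
      rw [hb, hc]
      exact Nat.Coprime.pow _ _ ((Nat.coprime_primes hs ht).2 hst)
    have h4 := Subgroup.commute_of_normal_of_disjoint T U hT hU h3 x (y : X) hx y.2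
    exact congrArg Subtype.val h4.eq

end Cfsg.Agent.H583.DPi
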