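import Cfsg.Agent.H583.DPi.Close
import Cfsg.Agent.H583.DPi.DataB
import Cfsg.Agent.H115.DPi.CentB
import Cfsg.Agent.NotCT.Orders

/-!
# S4247: the row of `B` (helper583)
-/

set_option autoImplicit false

namespace Cfsg.Agent.H583.DPi

open Subgroup Cfsg Cfsg.Agent.H988.CPi Cfsg.Agent.H571.RV Cfsg.Agent.H817.DPi Cfsg.Agent.OrdDiv
  Cfsg.Agent.H995.CopEngine

universe u

variable {S : Type u} [Group S] [Finite S] [IsSimpleGroup S]

theorem row_b (hK : AllKnown.{u}) (hS : H715.Mon.Grp.SThree.{0}) (hs : IsSporadicGroup S) (h : Spor.IsoB S) (π : Set ℕ) : Row π S := by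
  have hn := NotCT.Orders.b h
  refine row_nil DataB.b hK (na_comp hn (a := 2) (b := 2077390740613213095588790272000000) (by norm_num) (by norm_num) (by norm_num)) hn
    (out_two hs) (hj_of_card hn (by norm_num)) ?_ (by simp) π
  intro p hp
  simp only [List.mem_cons, List.not_mem_nil, or_false] at hp
  rcases hp with rfl | rfl
  · exact (H115.DPi.c_b hS h).1
  · exact (H115.DPi.c_b hS h).2


end Cfsg.Agent.H583.DPi
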