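import Cfsg.Agent.H583.DPi.Close
import Cfsg.Agent.H583.DPi.DataC
import Cfsg.Agent.H583.DPi.CentCo
import Cfsg.Agent.H680.DP.NoIdx
import Cfsg.Agent.H294.Ix.Main
import Cfsg.Agent.H729.NF.CoTwo
import Cfsg.Agent.H889.DPi.NfCo
import Cfsg.Agent.H219.PD.RowsCo
import Cfsg.Agent.NotCT.Orders
import Cfsg.Agent.S2069
import Cfsg.Agent.S2070
import Cfsg.Agent.S2071

/-!
# S4247: the rows of the Conway groups (helper583)
-/

set_option autoImplicit false

namespace Cfsg.Agent.H583.DPi

open Subgroup Cfsg Cfsg.Agent.H988.CPi Cfsg.Agent.H571.RV Cfsg.Agent.H817.DPi Cfsg.Agent.OrdDiv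
  Cfsg.Agent.H995.CopEngine

universe u

variable {S : Type u} [Group S] [Finite S] [IsSimpleGroup S]

theorem row_co3 (hK : AllKnown.{u}) (h : Spor.IsoCo3 S) (π : Set ℕ) : Row π S := by
  have hn := NotCT.Orders.co3 h
  have ho : (inn S).index ∣ 1 := by
    obtain ⟨e⟩ := h
    exact out_one ((H55.OutGen.card_out_congr e).trans S2071.result)
  have hj := hj_of_lt (j := 10) (d := 0) (fun b hb hb2 => H219.PD.lt_of_ct (H633.CentTwo.co3 h) hb hb2) hn (by norm_num)
  intro P K B C _
  obtain ⟨q, k, i, hq, hE, hi, hP, hm⟩ := DataC.co3.main hK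
    (na_comp hn (a := 2) (b := 247883328000) (by norm_num) (by norm_num) (by norm_num)) hn
    ho hj (by
      intro p hp
      simp only [List.mem_cons, List.not_mem_nil, or_false] at hp
      subst hp
      exact c_co3 h) (by simp) C
  exfalso
  apply H680.DP.no_index_co3 h (ip B)
  have h2 := card_mul_index (ip B)
  rw [hn, hi] at h2
  simp only [List.mem_cons, List.not_mem_nil, or_false, Prod.mk.injEq] at hE
  obtain ⟨-, rfl, rfl⟩ := hE
  omega

theorem row_co2 (hK : AllKnown.{u}) (h : Spor.IsoCo2 S) (π : Set ℕ) : Row π S := by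
  have hn := NotCT.Orders.co2 h
  have ho : (inn S).index ∣ 1 := by
    obtain ⟨e⟩ := h
    exact out_one ((H55.OutGen.card_out_congr e).trans S2070.result)
  intro P K B C _
  obtain ⟨q, k, i, hq, hE, hi, hP, hm⟩ := DataC.co2.main hK
    (na_comp hn (a := 2) (b := 21152710656000) (by norm_num) (by norm_num) (by norm_num)) hn
    ho (hj_of_card hn (by norm_num)) (by
      intro p hp
      simp only [List.mem_cons, List.not_mem_nil, or_false] at hp
      subst hp
      exact c_co2 h) (by
      intro st hst a ha
      simp only [List.mem_cons, List.not_mem_nil, or_false] at hst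
      rcases hst with rfl | rfl
      · have h1 : a = 6 := by simpa using ha
        subst h1
        exact (H729.NF.nf_co2 h).1
      · have h1 : a = 3 := by simpa using ha
        subst h1
        exact (H729.NF.nf_co2 h).2) C
  exfalso
  apply H294.Ix.no_index_co2 h (ip B)
  have h2 := card_mul_index (ip B)
  rw [hn, hi] at h2
  simp only [List.mem_cons, List.not_mem_nil, or_false, Prod.mk.injEq] at hE
  obtain ⟨-, rfl, rfl⟩ := hE
  omega

theorem row_co1 (hK : AllKnown.{u}) (h : Spor.IsoCo1 S) (π : Set ℕ) : Row π S := by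
  have hn := NotCT.Orders.co1 h
  have ho : (inn S).index ∣ 1 := by
    obtain ⟨e⟩ := h
    exact out_one ((H55.OutGen.card_out_congr e).trans S2069.result)
  intro P K B C _
  obtain ⟨q, k, i, hq, hE, hi, hP, hm⟩ := DataC.co1.main hK
    (na_comp hn (a := 2) (b := 2078888403271680000) (by norm_num) (by norm_num) (by norm_num)) hn
    ho (hj_of_card hn (by norm_num)) (by
      intro p hp
      simp only [List.mem_cons, List.not_mem_nil, or_false] at hp
      subst hp
      exact c_co1 h) (by
      intro st hst a ha
      simp only [List.mem_cons, List.not_mem_nil, or_false] at hst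
      rcases hst with rfl | rfl
      · have h1 : a = 9 := by simpa using ha
        subst h1
        exact (H889.DPi.nf_co1 h).1
      · have h1 : a = 4 := by simpa using ha
        subst h1
        exact (H889.DPi.nf_co1 h).2) C
  exfalso
  apply H680.DP.no_index_co1 h (ip B)
  have h2 := card_mul_index (ip B)
  rw [hn, hi] at h2
  simp only [List.mem_cons, List.not_mem_nil, or_false, Prod.mk.injEq] at hE
  obtain ⟨-, rfl, rfl⟩ := hE
  omega


end Cfsg.Agent.H583.DPi
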