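import Cfsg.Agent.H583.DPi.Close
import Cfsg.Agent.H583.DPi.DataC
import Cfsg.Agent.H583.DPi.CentA
import Cfsg.Agent.H108.Sp4.Main
import Cfsg.Agent.H859.DPi.FiTT
import Cfsg.Agent.NotCT.Orders

/-!
# S4247: the row of `Fi₂₂` (helper583)
-/

set_option autoImplicit false

namespace Cfsg.Agent.H583.DPi

open Subgroup Cfsg Cfsg.Agent.H988.CPi Cfsg.Agent.H571.RV Cfsg.Agent.H817.DPi Cfsg.Agent.OrdDiv
  Cfsg.Agent.H995.CopEngine

universe u

variable {S : Type u} [Group S] [Finite S] [IsSimpleGroup S]

theorem row_fi22 (hK : AllKnown.{u}) (hs : IsSporadicGroup S) (h : Spor.IsoFi22 S) (π : Set ℕ) : Row π S := by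
  have hn := NotCT.Orders.fi22 h
  intro P K B C _
  obtain ⟨q, k, i, hq, hE, hi, hP, hm⟩ := DataC.fi22.main hK
    (na_comp hn (a := 2) (b := 32280875827200) (by norm_num) (by norm_num) (by norm_num)) hn
    (out_two hs) (hj_of_card hn (by norm_num)) (by
      intro p hp
      simp only [List.mem_cons, List.not_mem_nil, or_false] at hp
      subst hp
      exact c_fi22 h) (by
      intro st hst a ha
      simp only [List.mem_cons, List.not_mem_nil, or_false] at hst
      rcases hst with rfl | rfl | rfl
      · have h1 : a = 2 := by simpa using ha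
        subst h1
        exact (H859.DPi.nf_fi22 h).1
      · have h1 : a = 1 := by simpa using ha
        subst h1
        exact nf_of_no (by norm_num) (by norm_num) (by norm_num) (by norm_num) (H859.DPi.nf_fi22 h).2
      · have h1 : a = 1 := by simpa using ha
        subst h1
        exact nf_of_no (by norm_num) (by norm_num) (by norm_num) (by norm_num) (H859.DPi.nf_fi22 h).2) C
  exfalso
  apply H108.Sp4.no_sub_fi22 h (ip B)
  rw [hi]
  simp only [List.mem_cons, List.not_mem_nil, or_false, Prod.mk.injEq] at hE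
  rcases hE with ⟨-, rfl, rfl⟩ | ⟨-, rfl, rfl⟩
  · right; norm_num
  · left; norm_num


end Cfsg.Agent.H583.DPi
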