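import Cfsg.Agent.H583.DPi.Close
import Cfsg.Agent.H583.DPi.DataA
import Cfsg.Agent.H583.DPi.CentA
import Cfsg.Agent.H184.PD.RowsB
import Cfsg.Agent.H184.PD.RowsC
import Cfsg.Agent.H680.DP.NF4
import Cfsg.Agent.NotCT.Orders

/-!
# S4247: the rows of `HS`, `McL`, `He` (helper583)
-/

set_option autoImplicit false

namespace Cfsg.Agent.H583.DPi

open Subgroup Cfsg Cfsg.Agent.H988.CPi Cfsg.Agent.H571.RV Cfsg.Agent.H817.DPi Cfsg.Agent.OrdDiv
  Cfsg.Agent.H995.CopEngine

universe u

variable {S : Type u} [Group S] [Finite S] [IsSimpleGroup S]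

theorem row_hs (hK : AllKnown.{u}) (hs : IsSporadicGroup S) (h : Spor.IsoHS S) (π : Set ℕ) : Row π S := by
  have hn := NotCT.Orders.hs h
  have hj := hj_of_lt (j := 8) (d := 1) (fun b hb hb2 => (H184.PD.evT_hs h).lt (by
    rw [← Nat.prime_two.pow_dvd_iff_le_factorization Nat.card_pos.ne', hn]
    norm_num) hb hb2) hn (by norm_num)
  refine row_nil DataA.hs hK (na_comp hn (a := 2) (b := 22176000) (by norm_num) (by norm_num) (by norm_num)) hn
    (out_two hs) hj ?_ (by simp) π
  intro p hp
  simp only [List.mem_cons, List.not_mem_nil, or_false] at hp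
  subst hp
  exact c_hs h

theorem row_mcl (hK : AllKnown.{u}) (hs : IsSporadicGroup S) (h : Spor.IsoMcL S) (π : Set ℕ) : Row π S := by
  have hn := NotCT.Orders.mcl h
  obtain ⟨-, -, -, ⟨L⟩⟩ := TypeM.FactsMcL.facts h
  have hj := hj_of_lt (j := 6) (d := 1) (fun b hb hb2 => H184.PD.lt_mcl hn L hb hb2) hn (by norm_num)
  refine row_nil DataA.mcl hK (na_comp hn (a := 2) (b := 449064000) (by norm_num) (by norm_num) (by norm_num)) hn
    (out_two hs) hj ?_ (by simp) π
  intro p hp
  simp only [List.mem_cons, List.not_mem_nil, or_false] at hp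
  subst hp
  exact c_mcl h

theorem row_he (hK : AllKnown.{u}) (hs : IsSporadicGroup S) (h : Spor.IsoHe S) (π : Set ℕ) : Row π S := by
  have hn := NotCT.Orders.he h
  refine row_nil DataA.he hK (na_comp hn (a := 2) (b := 2015193600) (by norm_num) (by norm_num) (by norm_num)) hn
    (out_two hs) (hj_of_card hn (by norm_num)) ?_ (by
      intro st hst a ha
      simp only [List.mem_cons, List.not_mem_nil, or_false] at hst
      rcases hst with rfl | rfl
      · have h1 : a = 2 := by simpa using ha
        subst h1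
        exact nf_of_no (by norm_num) (by norm_num) (by norm_num) (by norm_num) (H680.DP.nf_he h)
      · have h1 : a = 3 := by simpa using ha
        subst h1
        exact nf_of_no (by norm_num) (by norm_num) (by norm_num) (by norm_num) (H680.DP.nf_he h)) π
  intro p hp
  simp only [List.mem_cons, List.not_mem_nil, or_false] at hp
  subst hp
  exact c_he h


end Cfsg.Agent.H583.DPi
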