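import Cfsg.Agent.H583.DPi.Close
import Cfsg.Agent.H583.DPi.DataC
import Cfsg.Agent.H583.DPi.CentA
import Cfsg.Agent.H569.PD.HN
import Cfsg.Agent.H859.DPi.HN
import Cfsg.Agent.NotCT.Orders

/-!
# S4247: the row of `HN` (helper583)
-/

set_option autoImplicit false

namespace Cfsg.Agent.H583.DPi

open Subgroup Cfsg Cfsg.Agent.H988.CPi Cfsg.Agent.H571.RV Cfsg.Agent.H817.DPi Cfsg.Agent.OrdDiv
  Cfsg.Agent.H995.CopEngine

universe u v

theorem card_cent_congr {G : Type u} {H : Type v} [Group G] [Group H] (e : G ≃* H) (x : G) :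
    Nat.card (centralizer ({e x} : Set H)) = Nat.card (centralizer ({x} : Set G)) := by
  have h1 : centralizer ({e x} : Set H) = (centralizer ({x} : Set G)).map e.toMonoidHom := by
    ext y
    rw [mem_centralizer_singleton_iff]
    constructor
    · intro hy
      refine ⟨e.symm y, ?_, by simp⟩
      rw [SetLike.mem_coe, mem_centralizer_singleton_iff]
      apply e.injective
      simp only [map_mul, e.apply_symm_apply]
      exact hy
    · rintro ⟨z, hz, rfl⟩
      rw [SetLike.mem_coe, mem_centralizer_singleton_iff] at hz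
      show e z * e x = e x * e z
      rw [← map_mul, ← map_mul, hz]
  rw [h1, card_map_of_injective e.injective]

open Cfsg.Agent.H160.PD Cfsg.Agent.H569.PD in
theorem hn_lt (y : Spor.HN) (hy : (orderOf y).Prime) (hy2 : orderOf y ≠ 2) :
    v 2 (centralizer ({y} : Set Spor.HN)) + 1 < v 2 Spor.HN := by
  have hc := Cfsg.Agent.KFacts.HN.Classes.card_HN
  have hfin : Finite Spor.HN := Nat.finite_of_card_ne_zero (by rw [hc]; norm_num)
  have hv : v 2 Spor.HN = 14 := fact_two (m := 16664484375) (by rw [hc]; norm_num) (by norm_num)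
  refine v_lt_one HN.twoC ?_ (by rw [hv]; norm_num) hy hy2
  intro u hu huv
  rcases SigZeroHN.card_centralizer_cases hu with ⟨-, h⟩ | ⟨h, -⟩
  · exfalso
    have h1 : v 2 (centralizer ({u} : Set Spor.HN)) = 11 := fact_two (m := 86625) (by rw [h]; norm_num) (by norm_num)
    omega
  · obtain ⟨g, hg⟩ := isConj_iff.1 h.symm
    exact ⟨g, hg.symm⟩

variable {S : Type u} [Group S] [Finite S] [IsSimpleGroup S]

omit [Finite S] [IsSimpleGroup S] in
theorem c_hn (h : Spor.IsoHN S) : HasC S 19 := by
  obtain ⟨e⟩ := h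
  refine HasC.congr e.symm ?_
  have hc := Cfsg.Agent.KFacts.HN.Classes.card_HN
  have hfin : Finite Spor.HN := Nat.finite_of_card_ne_zero (by rw [hc]; norm_num)
  exact HasC.of_all (by norm_num) (by rw [hc]; norm_num) Cfsg.Agent.H94.CopHN.sc_nineteen

theorem row_hn (hK : AllKnown.{u}) (hs : IsSporadicGroup S) (h : Spor.IsoHN S) (π : Set ℕ) : Row π S := by
  have hn := NotCT.Orders.hn h
  have hj := hj_of_lt (j := 13) (d := 1) (S := S) (fun b hb hb2 => by
    obtain ⟨e⟩ := h
    have h1 := hn_lt (e b) (by rw [MulEquiv.orderOf_eq]; exact hb) (by rw [MulEquiv.orderOf_eq]; exact hb2)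
    rw [H160.PD.v, H160.PD.v, card_cent_congr, ← Nat.card_congr e.toEquiv] at h1
    exact h1) hn (by norm_num)
  refine row_nil DataC.hn hK (na_comp hn (a := 2) (b := 136515456000000) (by norm_num) (by norm_num) (by norm_num)) hn
    (out_two hs) hj ?_ ?_ π
  · intro p hp
    simp only [List.mem_cons, List.not_mem_nil, or_false] at hp
    subst hp
    exact c_hn h
  · intro st hst a ha
    simp only [List.mem_cons, List.not_mem_nil, or_false] at hst
    subst hst
    have h1 : a = 1 := by simpa using ha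
    subst h1
    exact H859.DPi.nf_hn h

end Cfsg.Agent.H583.DPi
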