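import Cfsg.Agent.H583.DPi.Close
import Cfsg.Agent.H583.DPi.DataA
import Cfsg.Agent.H583.DPi.DataC
import Cfsg.Agent.H583.DPi.CentA
import Cfsg.Agent.H108.Sp4.Main
import Cfsg.Agent.H314.DPi.HC1
import Cfsg.Agent.NotCT.Orders

/-!
# S4247: the rows of the Janko groups, `Suz`, `O'N`, `Fi₂₂` (helper583)
-/

set_option autoImplicit false

namespace Cfsg.Agent.H583.DPi

open Subgroup Cfsg Cfsg.Agent.H988.CPi Cfsg.Agent.H571.RV Cfsg.Agent.H817.DPi Cfsg.Agent.OrdDiv
  Cfsg.Agent.H995.CopEngine

universe u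

variable {S : Type u} [Group S] [Finite S] [IsSimpleGroup S]

theorem row_j1 (hK : AllKnown.{u}) (hs : IsSporadicGroup S) (h : Spor.IsoJ1 S) (π : Set ℕ) : Row π S := by
  have hn := NotCT.Orders.j1 h
  refine row_nil DataA.j1 hK (na_comp hn (a := 2) (b := 87780) (by norm_num) (by norm_num) (by norm_num)) hn
    (out_two hs) (hj_of_card hn (by norm_num)) ?_ (by simp) π
  intro p hp
  simp only [List.mem_cons, List.not_mem_nil, or_false] at hp
  rcases hp with rfl | rfl
  · exact c_j1 h
  · exact H314.DPi.c_j1 h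

theorem row_j2 (hK : AllKnown.{u}) (hs : IsSporadicGroup S) (h : Spor.IsoJ2 S) (π : Set ℕ) : Row π S := by
  have hn := NotCT.Orders.j2 h
  intro P K B C _
  obtain ⟨q, k, i, hq, hE, hi, hP, hm⟩ := DataA.j2.main hK
    (na_comp hn (a := 2) (b := 302400) (by norm_num) (by norm_num) (by norm_num)) hn
    (out_two hs) (hj_of_card hn (by norm_num)) (by
      intro p hp
      simp only [List.mem_cons, List.not_mem_nil, or_false] at hp
      subst hp
      exact c_j2 h) (by simp) C
  exfalso
  apply H108.Sp4.no_hall_j2 h P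
  simp only [List.mem_cons, List.not_mem_nil, or_false, Prod.mk.injEq] at hE
  rcases hE with ⟨-, rfl, rfl⟩ | ⟨-, rfl, rfl⟩ | ⟨-, rfl, rfl⟩ | ⟨-, rfl, rfl⟩ | ⟨-, rfl, rfl⟩ | ⟨-, rfl, rfl⟩ <;> omega

theorem row_j3 (hK : AllKnown.{u}) (hs : IsSporadicGroup S) (h : Spor.IsoJ3 S) (π : Set ℕ) : Row π S := by
  have hn := NotCT.Orders.j3 h
  refine row_nil DataA.j3 hK (na_comp hn (a := 2) (b := 25116480) (by norm_num) (by norm_num) (by norm_num)) hn
    (out_two hs) (hj_of_card hn (by norm_num)) ?_ (by simp) π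
  intro p hp
  simp only [List.mem_cons, List.not_mem_nil, or_false] at hp
  rcases hp with rfl | rfl
  · exact (c_j3 h).1
  · exact (c_j3 h).2

theorem row_j4 (hK : AllKnown.{u}) (hs : IsSporadicGroup S) (h : Spor.IsoJ4 S) (π : Set ℕ) : Row π S := by
  have hn := NotCT.Orders.j4 h
  refine row_nil DataC.j4 hK (na_comp hn (a := 2) (b := 43387785523038781440) (by norm_num) (by norm_num)
    (by norm_num)) hn (out_two hs) (hj_of_card hn (by norm_num)) ?_ (by simp) π
  intro p hp
  simp only [List.mem_cons, List.not_mem_nil, or_false] at hp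
  rcases hp with rfl | rfl
  · exact c_j4 h
  · exact H314.DPi.c_j4 h

theorem row_suz (hK : AllKnown.{u}) (hs : IsSporadicGroup S) (h : Spor.IsoSuz S) (π : Set ℕ) : Row π S := by
  have hn := NotCT.Orders.suz h
  refine row_nil DataC.suz hK (na_comp hn (a := 2) (b := 224172748800) (by norm_num) (by norm_num)
    (by norm_num)) hn (out_two hs) (hj_of_card hn (by norm_num)) ?_ (by simp) π
  intro p hp
  simp only [List.mem_cons, List.not_mem_nil, or_false] at hp
  rcases hp with rfl | rfl
  · exact c_suz h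
  · exact H314.DPi.c_suz13 h

theorem row_on (hK : AllKnown.{u}) (hs : IsSporadicGroup S) (h : Spor.IsoON S) (π : Set ℕ) : Row π S := by
  have hn := NotCT.Orders.on h
  refine row_nil DataC.opn hK (na_comp hn (a := 2) (b := 230407752960) (by norm_num) (by norm_num)
    (by norm_num)) hn (out_two hs) (hj_of_card hn (by norm_num)) ?_ (by simp) π
  intro p hp
  simp only [List.mem_cons, List.not_mem_nil, or_false] at hp
  rcases hp with rfl | rfl
  · exact (H314.DPi.c_on h).1
  · exact (H314.DPi.c_on h).2.1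

end Cfsg.Agent.H583.DPi
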