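import Cfsg.Agent.H583.DPi.Close
import Cfsg.Agent.H583.DPi.DataA
import Cfsg.Agent.H583.DPi.CentA
import Cfsg.Agent.H434.FP.Twelve
import Cfsg.Agent.H633.CentSporA
import Cfsg.Agent.NotCT.Orders
import Cfsg.Agent.S1589
import Cfsg.Agent.S2063
import Cfsg.Agent.S2064

/-!
# S4247: the rows of the Mathieu groups (helper583)
-/

set_option autoImplicit false

namespace Cfsg.Agent.H583.DPi

open Subgroup Cfsg Cfsg.Agent.H988.CPi Cfsg.Agent.H571.RV Cfsg.Agent.H817.DPi Cfsg.Agent.OrdDiv
  Cfsg.Agent.H995.CopEngine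

universe u

variable {S : Type u} [Group S] [Finite S] [IsSimpleGroup S]

theorem row_m22 (hK : AllKnown.{u}) (hs : IsSporadicGroup S) (h : Spor.IsoM22 S) (π : Set ℕ) : Row π S := by
  have hn := NotCT.Orders.m22 h
  refine row_nil DataA.m22 hK (na_comp hn (a := 2) (b := 221760) (by norm_num) (by norm_num) (by norm_num)) hn
    (out_two hs) (hj_of_card hn (by norm_num)) ?_ (by simp) π
  intro p hp
  simp only [List.mem_cons, List.not_mem_nil, or_false] at hp
  rcases hp with rfl | rfl
  · exact (c_m22 h).1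
  · exact (c_m22 h).2

theorem row_m11 (hK : AllKnown.{u}) (hs : IsSporadicGroup S) (h : Spor.IsoM11 S) (π : Set ℕ) : Row π S := by
  have hn := NotCT.Orders.m11 h
  intro P K B C _
  obtain ⟨q, k, i, hq, hE, -⟩ := DataA.m11.main hK
    (na_comp hn (a := 2) (b := 3960) (by norm_num) (by norm_num) (by norm_num)) hn
    (out_two hs) (hj_of_card hn (by norm_num)) (by
      intro p hp
      simp only [List.mem_cons, List.not_mem_nil, or_false] at hp
      subst hp
      exact c_m11 h) (by simp) C
  refine Or.inr (Or.inr (Or.inr (Or.inl ⟨h, two_of DataA.m11.v hn hq ?_⟩)))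
  simp only [List.mem_cons, List.not_mem_nil, or_false, Prod.mk.injEq] at hE
  rcases hE with hE | hE <;> exact hE.1

theorem row_m12 (hK : AllKnown.{u}) (hs : IsSporadicGroup S) (h : Spor.IsoM12 S) (π : Set ℕ) : Row π S := by
  have hn := NotCT.Orders.m12 h
  intro P K B C _
  obtain ⟨q, k, i, hq, hE, hi, -⟩ := DataA.m12.main hK
    (na_comp hn (a := 2) (b := 47520) (by norm_num) (by norm_num) (by norm_num)) hn
    (out_two hs) (hj_of_card hn (by norm_num)) (by
      intro p hp
      simp only [List.mem_cons, List.not_mem_nil, or_false] at hp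
      subst hp
      exact c_m12 h) (by simp) C
  exfalso
  have h1 := H434.FP.no_index_m12 h (ip B)
  have h2 := card_mul_index (ip B)
  rw [hn, hi] at h2
  simp only [List.mem_cons, List.not_mem_nil, or_false, Prod.mk.injEq] at hE
  rcases hE with ⟨-, rfl, rfl⟩ | ⟨-, rfl, rfl⟩
  · exact h1.2 (by omega)
  · exact h1.1 (by omega)

theorem row_m23 (hK : AllKnown.{u}) (h : Spor.IsoM23 S) (π : Set ℕ) : Row π S := by
  have hn := NotCT.Orders.m23 h
  have ho : (inn S).index ∣ 1 := by
    obtain ⟨e⟩ := h
    exact out_one ((H55.OutGen.card_out_congr e).trans S2063.result)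
  have hj := hj_of_lt (j := 7) (d := 0) (fun b hb hb2 => H219.PD.lt_of_ct (H633.CentTwo.m23 h) hb hb2) hn (by norm_num)
  intro P K B C _
  obtain ⟨q, k, i, hq, hE, -⟩ := DataA.m23.main hK
    (na_comp hn (a := 2) (b := 5100480) (by norm_num) (by norm_num) (by norm_num)) hn
    ho hj (by
      intro p hp
      simp only [List.mem_cons, List.not_mem_nil, or_false] at hp
      subst hp
      exact c_m23 h) (by simp) C
  refine Or.inr (Or.inr (Or.inr (Or.inr ⟨h, two_of DataA.m23.v hn hq ?_⟩)))
  simp only [List.mem_cons, List.not_mem_nil, or_false, Prod.mk.injEq] at hE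
  exact hE.1

theorem no_index_m24 (h : Spor.IsoM24 S) (H : Subgroup S) : H.index ≠ 253 := by
  obtain ⟨e⟩ := h
  intro hH
  apply S1589.result.2.2.2 (H.map e.toMonoidHom)
  rw [← hH]
  exact index_map_of_bijective e.bijective H

theorem row_m24 (hK : AllKnown.{u}) (h : Spor.IsoM24 S) (π : Set ℕ) : Row π S := by
  have hn := NotCT.Orders.m24 h
  have ho : (inn S).index ∣ 1 := by
    obtain ⟨e⟩ := h
    exact out_one ((H55.OutGen.card_out_congr e).trans S2064.result)
  have hj := hj_of_lt (j := 10) (d := 0) (fun b hb hb2 => H219.PD.lt_of_ct (H633.CentTwo.m24 h) hb hb2) hn (by norm_num)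
  intro P K B C _
  obtain ⟨q, k, i, hq, hE, hi, -⟩ := DataA.m24.main hK
    (na_comp hn (a := 2) (b := 122411520) (by norm_num) (by norm_num) (by norm_num)) hn
    ho hj (by
      intro p hp
      simp only [List.mem_cons, List.not_mem_nil, or_false] at hp
      subst hp
      exact c_m24 h) (by simp) C
  exfalso
  apply no_index_m24 h (ip B)
  have h2 := card_mul_index (ip B)
  rw [hn, hi] at h2
  simp only [List.mem_cons, List.not_mem_nil, or_false, Prod.mk.injEq] at hE
  obtain ⟨-, rfl, rfl⟩ := hE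
  omega

end Cfsg.Agent.H583.DPi
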