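import Cfsg.Agent.H583.DPi.Close
import Cfsg.Agent.H583.DPi.DataC
import Cfsg.Agent.H583.DPi.CentA
import Cfsg.Agent.H294.Ix.Main
import Cfsg.Agent.H803.DPi.CentD
import Cfsg.Agent.NotCT.Orders
import Cfsg.Agent.S2077

/-!
# S4247: the row of `Ru` (helper583)
-/

set_option autoImplicit false

namespace Cfsg.Agent.H583.DPi

open Subgroup Cfsg Cfsg.Agent.H988.CPi Cfsg.Agent.H571.RV Cfsg.Agent.H817.DPi Cfsg.Agent.OrdDiv
  Cfsg.Agent.H995.CopEngine

universe u

variable {S : Type u} [Group S] [Finite S] [IsSimpleGroup S]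

theorem row_ru (hK : AllKnown.{u}) (h : Spor.IsoRu S) (π : Set ℕ) : Row π S := by
  have hn := NotCT.Orders.ru h
  have ho : (inn S).index ∣ 1 := by
    obtain ⟨e⟩ := h
    exact out_one ((H55.OutGen.card_out_congr e).trans S2077.result)
  intro P K B C _
  obtain ⟨q, k, i, hq, hE, hi, hP, hm⟩ := DataC.ru.main hK
    (na_comp hn (a := 2) (b := 72963072000) (by norm_num) (by norm_num) (by norm_num)) hn
    ho (hj_of_card hn (by norm_num)) (by
      intro p hp
      simp only [List.mem_cons, List.not_mem_nil, or_false] at hp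
      subst hp
      exact c_ru h) (by
      intro st hst a ha
      simp only [List.mem_cons, List.not_mem_nil, or_false] at hst
      rcases hst with rfl
      · have h1 : a = 3 := by simpa using ha
        subst h1
        exact H803.DPi.nf_ru h) C
  exfalso
  apply H294.Ix.no_index_ru h (ip B)
  have h2 := card_mul_index (ip B)
  rw [hn, hi] at h2
  simp only [List.mem_cons, List.not_mem_nil, or_false, Prod.mk.injEq] at hE
  obtain ⟨-, rfl, rfl⟩ := hE
  omega


end Cfsg.Agent.H583.DPi
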