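import Cfsg.Agent.H583.DPi.Close
import Cfsg.Agent.H583.DPi.DataA
import Cfsg.Agent.H309.TT.Tits351
import Cfsg.Agent.H803.DPi.CentD
import Cfsg.Agent.H680.DP.NF4
import Cfsg.Agent.NotCT.Orders

/-!
# S4247: the row of the Tits group (helper583)
-/

set_option autoImplicit false

namespace Cfsg.Agent.H583.DPi

open Subgroup Cfsg Cfsg.Agent.H988.CPi Cfsg.Agent.H571.RV Cfsg.Agent.H817.DPi Cfsg.Agent.OrdDiv
  Cfsg.Agent.H995.CopEngine

universe u

variable {S : Type u} [Group S] [Finite S] [IsSimpleGroup S]

theorem row_tits (hK : AllKnown.{u}) (h : Lie.IsoTits S) (π : Set ℕ) : Row π S := by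
  have hn := NotCT.Orders.tits h
  intro P K B C _
  obtain ⟨q, k, i, hq, hE, hi, hP, hm⟩ := DataA.tits.main hK
    (na_comp hn (a := 2) (b := 8985600) (by norm_num) (by norm_num) (by norm_num)) hn
    (H783.PglSpor.index_tits h) (hj_of_card hn (by norm_num)) (by
      intro p hp
      simp only [List.mem_cons, List.not_mem_nil, or_false] at hp
      subst hp
      exact H803.DPi.c_tits h) (by
      intro st hst a ha
      simp only [List.mem_cons, List.not_mem_nil, or_false] at hst
      rcases hst with rfl
      · have h1 : a = 2 := by simpa using ha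
        subst h1
        exact H680.DP.nf_tits h) C
  exfalso
  apply H309.TT.no_351 h P
  simp only [List.mem_cons, List.not_mem_nil, or_false, Prod.mk.injEq] at hE
  rcases hE with ⟨-, rfl, rfl⟩ | ⟨-, rfl, rfl⟩ <;> omega


end Cfsg.Agent.H583.DPi
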