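import Cfsg.Agent.H583.DPi.Eng
import Cfsg.Agent.H995.CopCoprime
import Cfsg.Agent.H783.PglSpor
import Cfsg.Agent.H55.OutGen

/-!
# S4247, sporadic rows: tools (helper583)
-/

set_option autoImplicit false

namespace Cfsg.Agent.H583.DPi

open Subgroup Cfsg Cfsg.Agent.H988.CPi Cfsg.Agent.H571.RV Cfsg.Agent.H817.DPi Cfsg.Agent.OrdDiv
  Cfsg.Agent.H995.CopEngine

universe u v

/-- an element with a centraliser of order `r` -/
def HasC (S : Type u) [Group S] (r : ℕ) : Prop := ∃ x : S, Nat.card (centralizer ({x} : Set S)) = r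

theorem HasC.congr {G : Type u} {H : Type v} [Group G] [Group H] {r : ℕ} (e : G ≃* H) (h : HasC G r) : HasC H r := by
  obtain ⟨x, hx⟩ := h
  refine ⟨e x, ?_⟩
  rw [← hx]
  have h1 : centralizer ({e x} : Set H) = (centralizer ({x} : Set G)).map e.toMonoidHom := by
    ext y
    rw [mem_centralizer_singleton_iff]
    constructor
    · intro hy
      refine ⟨e.symm y, ?_, by simp⟩
      rw [SetLike.mem_coe, mem_centralizer_singleton_iff]
      apply e.injective
      simp only [map_mul, e.apply_symm_apply]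
      exact hy
    · rintro ⟨z, hz, rfl⟩
      rw [SetLike.mem_coe, mem_centralizer_singleton_iff] at hz
      show e z * e x = e x * e z
      rw [← map_mul, ← map_mul, hz]
  rw [h1, card_map_of_injective e.injective]

theorem HasC.iso {S : Type u} [Group S] {n r : ℕ} (h : HasC S r) (hr : (isPrimeB r && r != 2 && n % r == 0 &&
    n % r ^ 2 != 0) = true) : Iso S n r := by
  simp only [Bool.and_eq_true, bne_iff_ne, beq_iff_eq] at hr
  obtain ⟨⟨⟨h1, h2⟩, h3⟩, h4⟩ := hr
  exact ⟨prime_of h1, h2, Nat.dvd_of_mod_eq_zero h3, fun hd => h4 (Nat.mod_eq_zero_of_dvd hd), h⟩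

/-- the table of orders -/
theorem ords_of_check (hK : AllKnown.{u}) {l : List (ℕ × ℕ)} {n : ℕ} {L : List ℕ} (hv : valid l n = true)
    (hL : ((cands l n).all fun g => L.contains (ordN g)) = true) : Ords.{u} n L := by
  intro X _ _ _ hna hd
  obtain ⟨g, hg, hc⟩ := exists_cand hK hna hv hd
  rw [List.all_eq_true] at hL
  rw [hc]
  exact List.contains_iff_mem.1 (hL g hg)

theorem out_one {S : Type u} [Group S] (h : Nat.card (Cfsg.Out S) = 1) : (inn S).index ∣ 1 := by
  rw [← h, Cfsg.Agent.H55.OutGen.card_out_eq_index]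
  exact dvd_refl _

theorem out_two {S : Type u} [Group S] [Finite S] (h : IsSporadicGroup S) : (inn S).index ∣ 2 :=
  Cfsg.Agent.H783.PglSpor.index_spor h

/-- the numerical data -/
structure Dat (n : ℕ) (l : List (ℕ × ℕ)) (c j : ℕ) (L : List ℕ) (HL : List (ℕ × List ℕ)) (nf : List (ℕ × ℕ))
    (E : List (List ℕ × ℕ × ℕ)) : Prop where
  v : valid l n = true
  nd : (l.map Prod.fst).Nodup
  l1 : ∀ x ∈ l, x.2 ≠ 0
  c2 : c = 1 ∨ c = 2
  ck : ((cands l n).all fun g => L.contains (ordN g)) = true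
  pr : (HL.all fun p => isPrimeB p.1 && p.1 != 2 && n % p.1 == 0 && n % p.1 ^ 2 != 0) = true
  hs : (HL.all fun p => (hs n l L p.1).all fun h => p.2.contains h) = true
  np : (nf.all fun p => isPrimeB p.1 && isPrimeB p.2 && p.1 != p.2) = true
  a : chkA n l c j HL nf E = true
  b : chkB n l c j HL nf E = true

theorem Dat.main {n : ℕ} {l : List (ℕ × ℕ)} {c j : ℕ} {L : List ℕ} {HL : List (ℕ × List ℕ)} {nf : List (ℕ × ℕ)}
    {E : List (List ℕ × ℕ × ℕ)} (D : Dat n l c j L HL nf E) (hK : AllKnown.{u}) {S : Type u} [Group S] [Finite S]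
    [IsSimpleGroup S] (hna : ¬ IsMulCommutative S) (hn : Nat.card S = n) (hout : (inn S).index ∣ c)
    (hj : ∀ b : S, (orderOf b).Prime → orderOf b ≠ 2 → ¬ 2 ^ j ∣ Nat.card (centralizer ({b} : Set S)))
    (hiso : ∀ p ∈ HL, HasC S p.1) (hnf : ∀ st ∈ nf, ∀ a, (st.1, a) ∈ l → NF S st.1 a st.2)
    {π : Set ℕ} {P : Subgroup S} {K B : Subgroup (MulAut S)} (C : Cfg π P K B) :
    ∃ (q : ℕ × ℕ → Bool) (k h : ℕ), (∀ x, q x = true ↔ x.1 ∈ π) ∧
      ((l.filter q).map Prod.fst, h, k) ∈ E ∧ Nat.card (ip B) = h ∧ Nat.card P = prodl (l.filter q) ∧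
      Nat.card P * k * h = n := by
  refine engine hna D.v D.nd D.l1 hn D.c2 hout hj (ords_of_check hK D.v D.ck) (HL := HL) ?_ (nf := nf) ?_ D.a D.b C
  · intro p hp
    have h1 := D.pr
    have h2 := D.hs
    rw [List.all_eq_true] at h1 h2
    refine ⟨(hiso p hp).iso (h1 p hp), ?_⟩
    have h3 := h2 p hp
    rw [List.all_eq_true] at h3
    intro h hh
    exact List.contains_iff_mem.1 (h3 h hh)
  · intro st hst
    have h1 := D.np
    rw [List.all_eq_true] at h1
    have h2 := h1 st hst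
    simp only [Bool.and_eq_true, bne_iff_ne] at h2
    exact ⟨prime_of h2.1.1, prime_of h2.1.2, h2.2, hnf st hst⟩

/-- no information on `2`-parts -/
theorem hj_of_card {S : Type u} [Group S] [Finite S] {n j : ℕ} (hn : Nat.card S = n) (hj : n % 2 ^ j ≠ 0) :
    ∀ b : S, (orderOf b).Prime → orderOf b ≠ 2 → ¬ 2 ^ j ∣ Nat.card (centralizer ({b} : Set S)) := by
  intro b _ _ hd
  apply hj
  rw [← hn]
  exact Nat.mod_eq_zero_of_dvd (hd.trans (card_subgroup_dvd_card _))

end Cfsg.Agent.H583.DPi
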